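import Cfsg.Agent.Lib.TC.Enc

namespace Cfsg.Agent.Lib.TC.D.Fi22U.S2_T0

open Cfsg.Agent.Lib.TC.Enc

set_option maxRecDepth 100000

/-- A part of a table. -/
noncomputable def tree : Tr Nat :=
  (Tr.node (Tr.leaf (nat_lit 0xac000031183da8331956bda54bda11c9f0dbd9c8bd9b2c0000c40eb5e012795ee635717706c623ae6026e5f6b0000310045c943570041ac22d60fb56cbb5686b567240000c40e95100f645ec5656c554ae6104a5426c524900003100397512d3d02d380355c1a52caad345ad331c0000c40e74362a495ea4856a474aa463ac530284527000031003140d2504c2500b24fc02d2811cf44a4fb180000c40e6366283b5e83a568394a8383a83726a44a5000031002908314bd69cd149ccd19cc8024f0098c6900000c4008350c4295a62d5262c4662b3662a227300400003109149c01cb87149861494514904148c090888c0000c438420006283041f2c41e2841d0431c0052142000031120c6910c6500c60f0c5c188540106c58c59840000c454213502124c2110810e003142e2101a20f800000311704316042c2801c0083508428c842478420000000c48a005880040010686003840028200180000))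
 (Tr.leaf (nat_lit 0x57000031126f0d16f082eb04f6efc1deecaeef80e6f45c0000c425ab721ab641bc0098b5079b911ab3037b2360000310e66c0d66bc2deb8b66b1b6ae015aac5eef0540000c4258a9218a81d8a719ab4158a6118a5035a4340000310e5e88d5e84c66b42568006ee81527806ac6cc0000c46169c0d3960b49b5369947698019aa23697320000310e5650d564cc5648b5e7ca564414a400628ec40000c46148e0d1895b69a0928d4748b0179d2348ad000003103c20405a542c61d5ce152ce10ece0c9ce0ab80000c46127f0ce7a5b27e5348c06f7d0158f2327bcd00003103b5cc052217ce18239e12c5d8ec5d49c5d2340000c401380590710ad6c4f0704306f3306e1f06d)))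

end Cfsg.Agent.Lib.TC.D.Fi22U.S2_T0
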