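import Cfsg.Agent.Lib.TC.D.Fi22U.Rels
import Cfsg.Agent.Lib.TC.Chain
import Cfsg.Agent.Lib.TC.D.Fi22U.S2_T0

namespace Cfsg.Agent.Lib.TC.D.Fi22U.S2_Tab

open Cfsg.Agent.Lib.TC.Core Cfsg.Agent.Lib.TC.Enc Cfsg.Agent.Lib.TC.Pres Cfsg.Agent.Lib.TC.Perm Cfsg.Agent.Lib.TC.Main Cfsg.Agent.Lib.TC.Chain

set_option maxRecDepth 100000

/-- The chunks of the certificate. -/
noncomputable def ctree : Tr Nat := Cfsg.Agent.Lib.TC.D.Fi22U.S2_T0.tree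

/-- The relator rotations. -/
noncomputable def rotT : Tr (List Nat) := (Tr.node (Tr.node (Tr.node (Tr.node (Tr.node (Tr.node (Tr.leaf [])
 (Tr.leaf [4,2,4,2]))
 (Tr.node (Tr.leaf [5,0,5,0])
 (Tr.leaf [6,5,6,5,6,5])))
 (Tr.node (Tr.node (Tr.leaf [1,0,1,0,1,0])
 (Tr.leaf [5,3,5,3]))
 (Tr.node (Tr.leaf [4,1,4,1])
 (Tr.leaf [3,4,5,6,0,1,2,3,4,5,6,0,1,2,3,4,5,6,0,1,2,3,4,5,6,0,1,2,3,4,5,6,0,1,2,3,4,5,6,0,1,2,3,4,5,6,0,1,2,3,4,5,6,0,1,2,3,4,5,6,0,1,2]))))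
 (Tr.node (Tr.node (Tr.node (Tr.leaf [3,3])
 (Tr.leaf [6,2,6,2]))
 (Tr.node (Tr.leaf [2,1,2,1,2,1])
 (Tr.leaf [1,2,3,4,5,6,0,1,2,3,4,5,6,0,1,2,3,4,5,6,0,1,2,3,4,5,6,0,1,2,3,4,5,6,0,1,2,3,4,5,6,0,1,2,3,4,5,6,0,1,2,3,4,5,6,0,1,2,3,4,5,6,0])))
 (Tr.node (Tr.node (Tr.leaf [3,0,3,0])
 (Tr.leaf [5,4,5,4]))
 (Tr.node (Tr.leaf [6,1,6,1])
 (Tr.leaf [5,6,0,1,2,3,4,5,6,0,1,2,3,4,5,6,0,1,2,3,4,5,6,0,1,2,3,4,5,6,0,1,2,3,4,5,6,0,1,2,3,4,5,6,0,1,2,3,4,5,6,0,1,2,3,4,5,6,0,1,2,3,4])))))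
 (Tr.node (Tr.node (Tr.node (Tr.node (Tr.leaf [1,1])
 (Tr.leaf [5,2,5,2]))
 (Tr.node (Tr.leaf [6,0,6,0])
 (Tr.leaf [0,1,2,3,4,5,6,0,1,2,3,4,5,6,0,1,2,3,4,5,6,0,1,2,3,4,5,6,0,1,2,3,4,5,6,0,1,2,3,4,5,6,0,1,2,3,4,5,6,0,1,2,3,4,5,6,0,1,2,3,4,5,6])))
 (Tr.node (Tr.node (Tr.leaf [2,0,2,0])
 (Tr.leaf [6,3,6,3]))
 (Tr.node (Tr.leaf [5,1,5,1,5,1])
 (Tr.leaf [4,5,6,0,1,2,3,4,5,6,0,1,2,3,4,5,6,0,1,2,3,4,5,6,0,1,2,3,4,5,6,0,1,2,3,4,5,6,0,1,2,3,4,5,6,0,1,2,3,4,5,6,0,1,2,3,4,5,6,0,1,2,3]))))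
 (Tr.node (Tr.node (Tr.node (Tr.leaf [5,5])
 (Tr.leaf [4,3,4,3,4,3]))
 (Tr.node (Tr.leaf [3,1,3,1])
 (Tr.leaf [2,3,4,5,6,0,1,2,3,4,5,6,0,1,2,3,4,5,6,0,1,2,3,4,5,6,0,1,2,3,4,5,6,0,1,2,3,4,5,6,0,1,2,3,4,5,6,0,1,2,3,4,5,6,0,1,2,3,4,5,6,0,1])))
 (Tr.node (Tr.node (Tr.leaf [4,0,4,0])
 (Tr.leaf [6,4,6,4]))
 (Tr.node (Tr.leaf [3,2,3,2,3,2])
 (Tr.leaf [6,0,1,2,3,4,5,6,0,1,2,3,4,5,6,0,1,2,3,4,5,6,0,1,2,3,4,5,6,0,1,2,3,4,5,6,0,1,2,3,4,5,6,0,1,2,3,4,5,6,0,1,2,3,4,5,6,0,1,2,3,4,5]))))))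
 (Tr.node (Tr.node (Tr.node (Tr.node (Tr.node (Tr.leaf [0,0])
 (Tr.leaf [2,4,2,4]))
 (Tr.node (Tr.leaf [0,5,0,5])
 (Tr.leaf [5,6,5,6,5,6])))
 (Tr.node (Tr.node (Tr.leaf [0,1,0,1,0,1])
 (Tr.leaf [3,5,3,5]))
 (Tr.node (Tr.leaf [1,4,1,4])
 (Tr.leaf [3,2,1,0,6,5,4,3,2,1,0,6,5,4,3,2,1,0,6,5,4,3,2,1,0,6,5,4,3,2,1,0,6,5,4,3,2,1,0,6,5,4,3,2,1,0,6,5,4,3,2,1,0,6,5,4,3,2,1,0,6,5,4]))))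
 (Tr.node (Tr.node (Tr.node (Tr.leaf [4,4])
 (Tr.leaf [2,6,2,6]))
 (Tr.node (Tr.leaf [1,2,1,2,1,2])
 (Tr.leaf [5,4,3,2,1,0,6,5,4,3,2,1,0,6,5,4,3,2,1,0,6,5,4,3,2,1,0,6,5,4,3,2,1,0,6,5,4,3,2,1,0,6,5,4,3,2,1,0,6,5,4,3,2,1,0,6,5,4,3,2,1,0,6])))
 (Tr.node (Tr.node (Tr.leaf [0,3,0,3])
 (Tr.leaf [4,5,4,5]))
 (Tr.node (Tr.leaf [1,6,1,6])
 (Tr.leaf [1,0,6,5,4,3,2,1,0,6,5,4,3,2,1,0,6,5,4,3,2,1,0,6,5,4,3,2,1,0,6,5,4,3,2,1,0,6,5,4,3,2,1,0,6,5,4,3,2,1,0,6,5,4,3,2,1,0,6,5,4,3,2])))))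
 (Tr.node (Tr.node (Tr.node (Tr.node (Tr.leaf [2,2])
 (Tr.leaf [2,5,2,5]))
 (Tr.node (Tr.leaf [0,6,0,6])
 (Tr.leaf [6,5,4,3,2,1,0,6,5,4,3,2,1,0,6,5,4,3,2,1,0,6,5,4,3,2,1,0,6,5,4,3,2,1,0,6,5,4,3,2,1,0,6,5,4,3,2,1,0,6,5,4,3,2,1,0,6,5,4,3,2,1,0])))
 (Tr.node (Tr.node (Tr.leaf [0,2,0,2])
 (Tr.leaf [3,6,3,6]))
 (Tr.node (Tr.leaf [1,5,1,5,1,5])
 (Tr.leaf [2,1,0,6,5,4,3,2,1,0,6,5,4,3,2,1,0,6,5,4,3,2,1,0,6,5,4,3,2,1,0,6,5,4,3,2,1,0,6,5,4,3,2,1,0,6,5,4,3,2,1,0,6,5,4,3,2,1,0,6,5,4,3]))))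
 (Tr.node (Tr.node (Tr.node (Tr.leaf [6,6])
 (Tr.leaf [3,4,3,4,3,4]))
 (Tr.node (Tr.leaf [1,3,1,3])
 (Tr.leaf [4,3,2,1,0,6,5,4,3,2,1,0,6,5,4,3,2,1,0,6,5,4,3,2,1,0,6,5,4,3,2,1,0,6,5,4,3,2,1,0,6,5,4,3,2,1,0,6,5,4,3,2,1,0,6,5,4,3,2,1,0,6,5])))
 (Tr.node (Tr.node (Tr.leaf [0,4,0,4])
 (Tr.leaf [4,6,4,6]))
 (Tr.node (Tr.leaf [2,3,2,3,2,3])
 (Tr.leaf [0,6,5,4,3,2,1,0,6,5,4,3,2,1,0,6,5,4,3,2,1,0,6,5,4,3,2,1,0,6,5,4,3,2,1,0,6,5,4,3,2,1,0,6,5,4,3,2,1,0,6,5,4,3,2,1,0,6,5,4,3,2,1])))))))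

/-- The subgroup rotations. -/
noncomputable def srotT : Tr (List Nat × Nat × List Nat) := (Tr.node (Tr.node (Tr.node (Tr.leaf ([],0,[]))
 (Tr.leaf ([],5,[])))
 (Tr.node (Tr.leaf ([],2,[]))
 (Tr.leaf ([],6,[]))))
 (Tr.node (Tr.node (Tr.leaf ([],1,[]))
 (Tr.leaf ([],6,[])))
 (Tr.node (Tr.leaf ([],3,[]))
 (Tr.leaf ([],6,[])))))

/-- The certificate. -/
noncomputable def cert : Cert :=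
  mkCert 7 28 196 2 64 70 4 15 174 20 140 166 1048575 67108863 8 5 255 31 13 10 7 ctree.get rotT.get srotT.get

/-- The witnesses of the rotations. -/
noncomputable def witT : Tr (Nat × Nat × Bool) := (Tr.node (Tr.node (Tr.node (Tr.node (Tr.node (Tr.node (Tr.leaf (0,0,false))
 (Tr.leaf (15,0,false)))
 (Tr.node (Tr.leaf (5,0,false))
 (Tr.leaf (26,0,false))))
 (Tr.node (Tr.node (Tr.leaf (1,0,false))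
 (Tr.leaf (20,0,false)))
 (Tr.node (Tr.leaf (10,0,false))
 (Tr.leaf (28,3,false)))))
 (Tr.node (Tr.node (Tr.node (Tr.leaf (18,0,false))
 (Tr.leaf (17,0,false)))
 (Tr.node (Tr.leaf (8,0,false))
 (Tr.leaf (28,1,false))))
 (Tr.node (Tr.node (Tr.leaf (3,0,false))
 (Tr.leaf (23,0,false)))
 (Tr.node (Tr.leaf (12,0,false))
 (Tr.leaf (28,5,false))))))
 (Tr.node (Tr.node (Tr.node (Tr.node (Tr.leaf (7,0,false))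
 (Tr.leaf (16,0,false)))
 (Tr.node (Tr.leaf (6,0,false))
 (Tr.leaf (28,0,false))))
 (Tr.node (Tr.node (Tr.leaf (2,0,false))
 (Tr.leaf (21,0,false)))
 (Tr.node (Tr.leaf (11,0,false))
 (Tr.leaf (28,4,false)))))
 (Tr.node (Tr.node (Tr.node (Tr.leaf (25,0,false))
 (Tr.leaf (19,0,false)))
 (Tr.node (Tr.leaf (9,0,false))
 (Tr.leaf (28,2,false))))
 (Tr.node (Tr.node (Tr.leaf (4,0,false))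
 (Tr.leaf (24,0,false)))
 (Tr.node (Tr.leaf (14,0,false))
 (Tr.leaf (28,6,false)))))))
 (Tr.node (Tr.node (Tr.node (Tr.node (Tr.node (Tr.leaf (0,0,false))
 (Tr.leaf (15,1,false)))
 (Tr.node (Tr.leaf (5,1,false))
 (Tr.leaf (26,1,false))))
 (Tr.node (Tr.node (Tr.leaf (1,1,false))
 (Tr.leaf (20,1,false)))
 (Tr.node (Tr.leaf (10,1,false))
 (Tr.leaf (28,3,true)))))
 (Tr.node (Tr.node (Tr.node (Tr.leaf (22,0,false))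
 (Tr.leaf (17,1,false)))
 (Tr.node (Tr.leaf (8,1,false))
 (Tr.leaf (28,1,true))))
 (Tr.node (Tr.node (Tr.leaf (3,1,false))
 (Tr.leaf (23,1,false)))
 (Tr.node (Tr.leaf (12,1,false))
 (Tr.leaf (28,5,true))))))
 (Tr.node (Tr.node (Tr.node (Tr.node (Tr.leaf (13,0,false))
 (Tr.leaf (16,1,false)))
 (Tr.node (Tr.leaf (6,1,false))
 (Tr.leaf (28,0,true))))
 (Tr.node (Tr.node (Tr.leaf (2,1,false))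
 (Tr.leaf (21,1,false)))
 (Tr.node (Tr.leaf (11,1,false))
 (Tr.leaf (28,4,true)))))
 (Tr.node (Tr.node (Tr.node (Tr.leaf (27,0,false))
 (Tr.leaf (19,1,false)))
 (Tr.node (Tr.leaf (9,1,false))
 (Tr.leaf (28,2,true))))
 (Tr.node (Tr.node (Tr.leaf (4,1,false))
 (Tr.leaf (24,1,false)))
 (Tr.node (Tr.leaf (14,1,false))
 (Tr.leaf (28,6,true))))))))

/-- The letters. -/
def ls : List Nat := [0,1,2,3,4,5,6]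

/-- The smaller letters. -/
def ls' : List Nat := [0,1,2,3,5,6]

/-- The inverses. -/
def inv' (c : Nat) : Nat := [0,1,2,3,4,5,6].getD c 0

/-- The relators. -/
def rels' : List (List Nat) :=
  [[0,0],
   [1,0,1,0,1,0],
   [2,0,2,0],
   [3,0,3,0],
   [4,0,4,0],
   [5,0,5,0],
   [6,0,6,0],
   [1,1],
   [2,1,2,1,2,1],
   [3,1,3,1],
   [4,1,4,1],
   [5,1,5,1,5,1],
   [6,1,6,1],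
   [2,2],
   [3,2,3,2,3,2],
   [4,2,4,2],
   [5,2,5,2],
   [6,2,6,2],
   [3,3],
   [4,3,4,3,4,3],
   [5,3,5,3],
   [6,3,6,3],
   [4,4],
   [5,4,5,4],
   [6,4,6,4],
   [5,5],
   [6,5,6,5,6,5],
   [6,6],
   [0,1,2,3,4,5,6,0,1,2,3,4,5,6,0,1,2,3,4,5,6,0,1,2,3,4,5,6,0,1,2,3,4,5,6,0,1,2,3,4,5,6,0,1,2,3,4,5,6,0,1,2,3,4,5,6,0,1,2,3,4,5,6]]

/-- The subgroup. -/
def subs' : List (List Nat) :=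
  [[0],[1],[2],[3],[5],[6]]


end Cfsg.Agent.Lib.TC.D.Fi22U.S2_Tab
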