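import Cfsg.Agent.Lib.TC.Enc

namespace Cfsg.Agent.Lib.TC.D.Fi22U.S3_T0

open Cfsg.Agent.Lib.TC.Enc

set_option maxRecDepth 100000

/-- A part of a table. -/
noncomputable def tree : Tr Nat :=
  (Tr.node (Tr.leaf (nat_lit 0x8c0000288049a02b15d03d6c1b5680458c73d62ac0000a20cb5148e55450603ce5430e5320e528a0000288041702a92c22d3ce3d64b353473531280000a23ac4900f5632c4806a4524c4714c46880000288039402a10103538e2d0cb2d0872d05a00000a242a3e00d4a0883a00c440493d18a3b6600002890a4e0fa4dc218ccd24d8a28f009cd4980000a22e83100b3f00a39228300462e1082f65000028909cb0f9cac214a0d1ca8a1ca4624d1100000a23a6263662500932064220082d02524430000288e9480d947c01c9c18c74914785188c0c0000a21e41b1a41a16419006210e41802317220000288b8c54a8c5098c4c01470108480105a040000a2462100a10c4020f3820e003111c20da00000288300180082d10428f0424c04208041c000000a20010552004500034e0024c0014a000))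
 (Tr.leaf (nat_lit 0x1e40000a243aa13faa00999c35a9f29a9e19a9d580000288ee668de66406a6c1e258966605665cdc0000a22f8942b893278920199505790118919500002891de382d62505e34e5e300623c0da2e500000a2476870b48341686396852d6841d78ab3000028834df005e2115604f5600c55fc0d1fac40000a20d176016824547a3d479052782157d110000288055ec6cdd05cdcc4cdc83cdc40c5c2bc0000a20cf694926e4526d0706c314772126a2f0000288051d4ac59c9c5988c59413d9004dbeb40000a20cd5d4906208e613d26b3105f2105e)))

end Cfsg.Agent.Lib.TC.D.Fi22U.S3_T0
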