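import Cfsg.Agent.Lib.TC.Enc

namespace Cfsg.Agent.Lib.TC.D.Fi22U.S4_T0

open Cfsg.Agent.Lib.TC.Enc

set_option maxRecDepth 100000

/-- A part of a table. -/
noncomputable def tree : Tr Nat :=
  (Tr.leaf (nat_lit 0x8e0000280ae96cbe7aef9c9be69af985a00005001f29074939d2026c61dd1d2c0000a0b36228d861ae000e8a0b21248000141663e518f434bb3d8f096c10900002818b72229c00d7e32db0296a10000050314cca5b7214c86531050c09c0000a092570885a031d0475602da1300001412429412b0e42808c9c052f850000280a5422192ae74602551a745060000501467193a40c87c042634c758c0000a001d00832ea94d22532594c410000140511264855731e4c850d2134200002800636014b0621c78c81231e4200005000845010c00634208a1c42c000000a060441410e4043002120802800000141d00370009b001680000084))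

end Cfsg.Agent.Lib.TC.D.Fi22U.S4_T0
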